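import Cfsg.Agent.SporB.Fi22.O7.Image
import Cfsg.Agent.SporB.Fi22.Main
import Cfsg.Agent.Lib.CosetEnum.Glue
import Cfsg.Agent.S0292

/-!
The subgroup `⟨b, …, i⟩` of `Fi22` is `PΩ₇(3)`.
-/

set_option autoImplicit false
set_option maxRecDepth 100000

namespace Cfsg.Agent.CosetEnum.Fi22.O7

open Matrix

/-- The vector of a root. -/
def root (l : ℕ) : Ix → ZMod 3 := fun i => (((roots.getD l []).getD (pos i) 0 : ℕ) : ZMod 3)

/-- The linear form of a root. -/
def form (l : ℕ) : Ix → ZMod 3 := fun i => (((forms.getD l []).getD (pos i) 0 : ℕ) : ZMod 3)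

theorem root_ok : (List.range 8).all (fun l =>
    decide (mats.getD l 1 + 1 = Matrix.vecMulVec (root l) (form l))) = true := by decide +kernel

/-- The position of a column of the basis. -/
def colRoot (j : Ix) : ℕ := basisIdx.getD (pos j) 0

theorem basis_inv : rootBasis * rootBasisInv = 1 := by decide +kernel

/-- The seven coordinates, listed. -/
def ixs : List Ix :=
  [.inl (), .inr (.inl 0), .inr (.inl 1), .inr (.inl 2), .inr (.inr 0), .inr (.inr 1), .inr (.inr 2)]

theorem mem_ixs : ∀ i : Ix, i ∈ ixs := by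
  rintro (⟨⟩ | j | j)
  · simp [ixs]
  all_goals fin_cases j <;> simp [ixs]

theorem basis_col_ok : ixs.all (fun i => ixs.all fun j =>
    decide (rootBasis i j = root (colRoot j) i)) = true := by decide +kernel

theorem basis_col (i j : Ix) : rootBasis i j = root (colRoot j) i := by
  have h := List.all_eq_true.mp (List.all_eq_true.mp basis_col_ok i (mem_ixs i)) j (mem_ixs j)
  exact of_decide_eq_true h

theorem eigen_step {z : Matrix Ix Ix (ZMod 3)} {c : ZMod 3} {a b : ℕ} (hb : b < 8)
    (hz : z * mats.getD b 1 = mats.getD b 1 * z) (hk : form b ⬝ᵥ root a ≠ 0)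
    (ha : z *ᵥ root a = c • root a) : z *ᵥ root b = c • root b := by
  have hP := of_decide_eq_true (List.all_eq_true.mp root_ok b (List.mem_range.mpr hb))
  have hz' : z * Matrix.vecMulVec (root b) (form b) = Matrix.vecMulVec (root b) (form b) * z := by
    rw [← hP, mul_add, add_mul, hz, mul_one, one_mul]
  have h := congrArg (fun A : Matrix Ix Ix (ZMod 3) => A *ᵥ root a) hz'
  simp only [← Matrix.mulVec_mulVec, ha, Matrix.mulVec_smul, Matrix.vecMulVec_mulVec] at h
  have key : (form b ⬝ᵥ root a) • (z *ᵥ root b) = (form b ⬝ᵥ root a) • (c • root b) := by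
    rw [smul_comm _ c]
    simpa [Matrix.mulVec_smul] using h
  exact smul_right_injective _ hk key

theorem eigen_first {z : Matrix Ix Ix (ZMod 3)} (hz : z * mats.getD 0 1 = mats.getD 0 1 * z) :
    ∃ c : ZMod 3, z *ᵥ root 0 = c • root 0 := by
  have hP := of_decide_eq_true (List.all_eq_true.mp root_ok 0 (List.mem_range.mpr (by omega)))
  have hz' : z * Matrix.vecMulVec (root 0) (form 0) = Matrix.vecMulVec (root 0) (form 0) * z := by
    rw [← hP, mul_add, add_mul, hz, mul_one, one_mul]
  have h := congrArg (fun A : Matrix Ix Ix (ZMod 3) => A *ᵥ root 1) hz'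
  simp only [← Matrix.mulVec_mulVec, Matrix.vecMulVec_mulVec] at h
  have hk : form 0 ⬝ᵥ root 1 ≠ 0 := by decide +kernel
  refine ⟨(form 0 ⬝ᵥ root 1)⁻¹ * (form 0 ⬝ᵥ (z *ᵥ root 1)), smul_right_injective _ hk ?_⟩
  simp only [smul_smul, ← mul_assoc, mul_inv_cancel₀ hk, one_mul]
  simpa [Matrix.mulVec_smul] using h

theorem scalar_of_commute {z : Matrix Ix Ix (ZMod 3)}
    (hz : ∀ l < 8, z * mats.getD l 1 = mats.getD l 1 * z) : ∃ c : ZMod 3, z = c • 1 := by
  obtain ⟨c, h0⟩ := eigen_first (hz 0 (by omega))
  have st := fun {a b : ℕ} (hb : b < 8) (hk : form b ⬝ᵥ root a ≠ 0) ha =>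
    eigen_step (c := c) (a := a) hb (hz b hb) hk ha
  have h1 := st (a := 0) (b := 1) (by omega) (by decide +kernel) h0
  have h2 := st (a := 1) (b := 2) (by omega) (by decide +kernel) h1
  have h3 := st (a := 2) (b := 3) (by omega) (by decide +kernel) h2
  have h6 := st (a := 2) (b := 6) (by omega) (by decide +kernel) h2
  have h4 := st (a := 3) (b := 4) (by omega) (by decide +kernel) h3
  have h5 := st (a := 4) (b := 5) (by omega) (by decide +kernel) h4
  have hall : ∀ j : Ix, z *ᵥ root (colRoot j) = c • root (colRoot j) := by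
    rintro (⟨⟩ | j | j)
    · exact h0
    all_goals fin_cases j <;> first | exact h1 | exact h2 | exact h3 | exact h4 | exact h5 | exact h6
  have hV : z * rootBasis = c • rootBasis := by
    ext i j
    rw [Matrix.smul_apply, basis_col i j]
    have h := congrFun (hall j) i
    simp only [Matrix.mul_apply, basis_col]
    exact h
  refine ⟨c, ?_⟩
  have h := congrArg (fun A : Matrix Ix Ix (ZMod 3) => A * rootBasisInv) hV
  simpa [Matrix.mul_assoc, basis_inv] using h

theorem det_eq_one_of_mem {g : Iso} (hg : g ∈ commutator Iso) : (coeM g).det = 1 := by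
  let f : Iso →* (ZMod 3)ˣ := (Matrix.GeneralLinearGroup.det).comp (Subgroup.subtype Iso)
  have hle : commutator Iso ≤ f.ker := Abelianization.commutator_subset_ker f
  have h : f g = 1 := hle hg
  have h' := congrArg Units.val h
  rw [Units.val_one] at h'
  exact h'

theorem comm_group_trivial {A : Type} [CommGroup A] (f : Iso →* A) : ∀ l, f (val l) = 1 := by
  have hr := fun W hW => (Glue.evalWord_hom f val W).symm.trans ((congrArg f (rels_one W hW)).trans f.map_one)
  have sq : ∀ l < 8, f (val l) * f (val l) = 1 := fun l hl => by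
    have h := hr [l, l] ((by decide +kernel : ∀ k < 8, [k, k] ∈ O.rels) l hl)
    simpa [evalWord] using h
  have adj : ∀ a b, a < 8 → b < 8 → [a, b, a, b, a, b] ∈ O.rels → f (val a) = f (val b) := by
    intro a b ha hb hm
    have h := hr _ hm
    simp only [evalWord, mul_one] at h
    have h' : f (val a) * f (val b) = 1 := by
      have e : f (val a) * (f (val b) * (f (val a) * (f (val b) * (f (val a) * f (val b))))) =
          (f (val a) * f (val a)) * (f (val b) * f (val b)) * (f (val a) * f (val b)) := by ac_rfl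
      rw [e, sq a ha, sq b hb, one_mul, one_mul] at h
      exact h
    calc f (val a) = f (val a) * (f (val b) * f (val b)) := by rw [sq b hb, mul_one]
      _ = f (val b) := by rw [← mul_assoc, h', one_mul]
  have e01 := adj 0 1 (by omega) (by omega) (by decide +kernel)
  have e12 := adj 1 2 (by omega) (by omega) (by decide +kernel)
  have e23 := adj 2 3 (by omega) (by omega) (by decide +kernel)
  have e26 := adj 2 6 (by omega) (by omega) (by decide +kernel)
  have e34 := adj 3 4 (by omega) (by omega) (by decide +kernel)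
  have e45 := adj 4 5 (by omega) (by omega) (by decide +kernel)
  have e67 := adj 6 7 (by omega) (by omega) (by decide +kernel)
  have h0 : f (val 0) = 1 := by
    have h := hr (repWord [0, 1, 2, 3, 4, 5, 6] 9) (by decide +kernel)
    simp only [evalWord_repWord, evalWord, mul_one, ← e45, ← e34, ← e26, ← e23, ← e12, ← e01] at h
    have e : f (val 0) * (f (val 0) * (f (val 0) * (f (val 0) * (f (val 0) * (f (val 0) * f (val 0)))))) =
        f (val 0) := by
      simp only [sq 0 (by omega), mul_one]
    rw [e, pow_succ, show 8 = 2 * 4 from rfl, pow_mul, pow_two, sq 0 (by omega), one_pow, one_mul] at h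
    exact h
  intro l
  rcases Nat.lt_or_ge l 8 with h | h
  · interval_cases l <;> simp only [← e67, ← e45, ← e34, ← e26, ← e23, ← e12, ← e01, h0]
  · rw [val, List.getD_eq_default _ _ (show gens.length ≤ l from h), map_one]

theorem image_le_commutator : image ≤ commutator Iso := by
  rw [image, Subgroup.closure_le]
  rintro _ ⟨l, rfl⟩
  rw [SetLike.mem_coe, ← Abelianization.ker_of, MonoidHom.mem_ker]
  exact comm_group_trivial Abelianization.of l

/-- Letters in the product of the presented group and the isometry group. -/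
def pairVal (l : ℕ) : pres.Gp × Iso := (pres.subVal O.sel l, val l)

theorem pair_rels : ∀ W ∈ O.rels, evalWord pairVal W = 1 := fun W hW => Prod.ext
  ((Glue.evalWord_hom (MonoidHom.fst pres.Gp Iso) pairVal W).trans
    (pres.local_rels (sel := O.sel) (rels := O.rels) (by decide +kernel) W hW))
  ((Glue.evalWord_hom (MonoidHom.snd pres.Gp Iso) pairVal W).trans (rels_one W hW))

/-- The glued subgroup. -/
def glue : Subgroup (pres.Gp × Iso) := Glue.gsub pairVal (List.range 8)

theorem card_glue_le : Nat.card glue ≠ 0 ∧ Nat.card glue ≤ 4585351680 := by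
  have g := @Glue.relIndex_le (pres.Gp × Iso) _
  have hO := g O.cert pairVal pair_rels (List.range 8) rfl O.inv_ok (by decide +kernel)
    (rels := O.rels) (by decide +kernel) O.rules_ok [0, 1, 2, 3, 4, 6, 7] (by decide +kernel)
  have hP := g P.cert pairVal pair_rels [0, 1, 2, 3, 4, 6, 7] rfl P.inv_ok (by decide +kernel)
    (rels := P.rels) (by decide +kernel) P.rules_ok [0, 1, 2, 3, 4, 6] (by decide +kernel)
  have hE := g E6.cert pairVal pair_rels [0, 1, 2, 3, 4, 6] rfl E6.inv_ok (by decide +kernel)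
    (rels := E6.rels) (by decide +kernel) E6.rules_ok [0, 1, 2, 3, 6] (by decide +kernel)
  have hD := g D5.cert pairVal pair_rels [0, 1, 2, 3, 6] rfl D5.inv_ok (by decide +kernel)
    (rels := D5.rels) (by decide +kernel) D5.rules_ok [0, 1, 2, 3] (by decide +kernel)
  have hA := g A4.cert pairVal pair_rels [0, 1, 2, 3] rfl A4.inv_ok (by decide +kernel)
    (rels := A4.rels) (by decide +kernel) A4.rules_ok [] (by decide +kernel)
  have h0 : Glue.gsub pairVal [] = ⊥ := by simp [Glue.gsub]
  rw [h0] at hA
  have h1 := Glue.gsub_mono pairVal (by decide : [0, 1, 2, 3] ⊆ [0, 1, 2, 3, 6])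
  have h2 := Glue.gsub_mono pairVal (by decide : [0, 1, 2, 3, 6] ⊆ [0, 1, 2, 3, 4, 6])
  have h3 := Glue.gsub_mono pairVal (by decide : [0, 1, 2, 3, 4, 6] ⊆ [0, 1, 2, 3, 4, 6, 7])
  have h4 := Glue.gsub_mono pairVal (by decide : [0, 1, 2, 3, 4, 6, 7] ⊆ List.range 8)
  rw [glue, show Nat.card (Glue.gsub pairVal (List.range 8)) =
      (⊥ : Subgroup (pres.Gp × Iso)).relIndex (Glue.gsub pairVal [0, 1, 2, 3]) *
      (Glue.gsub pairVal [0, 1, 2, 3]).relIndex (Glue.gsub pairVal [0, 1, 2, 3, 6]) *
      (Glue.gsub pairVal [0, 1, 2, 3, 6]).relIndex (Glue.gsub pairVal [0, 1, 2, 3, 4, 6]) *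
      (Glue.gsub pairVal [0, 1, 2, 3, 4, 6]).relIndex (Glue.gsub pairVal [0, 1, 2, 3, 4, 6, 7]) *
      (Glue.gsub pairVal [0, 1, 2, 3, 4, 6, 7]).relIndex (Glue.gsub pairVal (List.range 8)) by
    rw [Subgroup.relIndex_mul_relIndex _ _ _ bot_le h1, Subgroup.relIndex_mul_relIndex _ _ _ bot_le h2,
      Subgroup.relIndex_mul_relIndex _ _ _ bot_le h3, Subgroup.relIndex_mul_relIndex _ _ _ bot_le h4,
      Subgroup.relIndex_bot_left]]
  refine ⟨?_, ?_⟩
  · simp only [Nat.mul_ne_zero_iff]
    exact ⟨⟨⟨⟨hA.1, hD.1⟩, hE.1⟩, hP.1⟩, hO.1⟩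
  · calc _ ≤ 120 * 16 * 27 * 243 * 364 := Nat.mul_le_mul (Nat.mul_le_mul (Nat.mul_le_mul
          (Nat.mul_le_mul hA.2 hD.2) hE.2) hP.2) hO.2
      _ = _ := by norm_num

/-- The first projection of the glued subgroup. -/
def toFi : glue →* pres.Gp := (MonoidHom.fst pres.Gp Iso).comp glue.subtype

/-- The second projection of the glued subgroup. -/
def toIsoHom : glue →* Iso := (MonoidHom.snd pres.Gp Iso).comp glue.subtype

theorem toFi_range : toFi.range = pres.sub O.sel := by
  rw [toFi, MonoidHom.range_comp, Subgroup.range_subtype, glue, Glue.gsub, MonoidHom.map_closure,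
    InvPres.sub]
  congr 1
  ext g
  constructor
  · rintro ⟨p, hp, rfl⟩
    obtain ⟨l, hl, rfl⟩ := List.mem_map.mp (show p ∈ (List.range 8).map pairVal from hp)
    exact ⟨l, List.mem_range.mp hl, rfl⟩
  · rintro ⟨l, hl, rfl⟩
    exact ⟨pairVal l, List.mem_map_of_mem (List.mem_range.mpr hl), rfl⟩

theorem toIsoHom_range : toIsoHom.range = image := by
  rw [toIsoHom, MonoidHom.range_comp, Subgroup.range_subtype, glue, Glue.gsub, MonoidHom.map_closure,
    image]
  apply le_antisymm
  · apply Subgroup.closure_mono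
    rintro _ ⟨p, hp, rfl⟩
    obtain ⟨l, -, rfl⟩ := List.mem_map.mp (show p ∈ (List.range 8).map pairVal from hp)
    exact ⟨l, rfl⟩
  · rw [Subgroup.closure_le]
    rintro _ ⟨l, rfl⟩
    rcases Nat.lt_or_ge l 8 with h | h
    · exact Subgroup.subset_closure ⟨pairVal l, List.mem_map_of_mem (List.mem_range.mpr h), rfl⟩
    · rw [val, List.getD_eq_default _ _ (show gens.length ≤ l from h)]
      exact one_mem _

/-- The subgroup `⟨b, …, i⟩` of `Fi22` is `PΩ₇(3)`. -/
theorem sub_iso : Nonempty (pres.sub O.sel ≃* Cfsg.POmega (ZMod 3) (Cfsg.quadFormOdd 3 (ZMod 3))) := by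
  haveI : Finite glue := Nat.finite_of_card_ne_zero card_glue_le.1
  haveI : Finite Iso := Subtype.finite
  have hi : Nat.card image ≤ Nat.card glue := by
    rw [← toIsoHom_range]
    exact Nat.card_le_card_of_surjective _ toIsoHom.rangeRestrict_surjective
  have hG : Nat.card glue = 4585351680 := le_antisymm card_glue_le.2 (image_card_ge.trans hi)
  haveI : Finite (pres.sub O.sel) := Nat.finite_of_card_ne_zero (by rw [index_O.2]; norm_num)
  have b1 : Function.Bijective toFi.rangeRestrict :=
    toFi.rangeRestrict_surjective.bijective_of_nat_card_le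
      (by rw [hG, toFi_range, index_O.2])
  have b2 : Function.Injective toIsoHom := by
    have b : Function.Bijective toIsoHom.rangeRestrict :=
      toIsoHom.rangeRestrict_surjective.bijective_of_nat_card_le
        (by rw [hG, toIsoHom_range]; exact image_card_ge)
    exact fun x y h => b.1 (Subtype.ext h)
  have hmem : ∀ x, toIsoHom x ∈ commutator Iso := fun x =>
    image_le_commutator (toIsoHom_range ▸ ⟨x, rfl⟩)
  let ω : glue →* commutator Iso := toIsoHom.codRestrict _ hmem
  let ψ : glue →* Cfsg.POmega (ZMod 3) (Cfsg.quadFormOdd 3 (ZMod 3)) :=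
    (QuotientGroup.mk' (Subgroup.center (commutator Iso))).comp ω
  have hinj : Function.Injective ψ := by
    rw [← MonoidHom.ker_eq_bot_iff, Subgroup.eq_bot_iff_forall]
    intro x hx
    have hc : ω x ∈ Subgroup.center (commutator Iso) := (QuotientGroup.eq_one_iff _).mp hx
    obtain ⟨c, hc'⟩ := scalar_of_commute (z := coeM (toIsoHom x)) fun l hl => by
      have h := congrArg (fun g : commutator Iso => coeM (g : Iso)) (Subgroup.mem_center_iff.mp hc
        ⟨val l, image_le_commutator (Subgroup.subset_closure ⟨l, rfl⟩)⟩)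
      simpa [coeM_mul, coe_val, ω] using h.symm
    have hd := det_eq_one_of_mem (hmem x)
    rw [hc', Matrix.det_smul, Matrix.det_one, mul_one] at hd
    have hc1 : c = 1 :=
      (by decide : ∀ d : ZMod 3, d ^ 7 = 1 → d = 1) c
        (by simpa [show Fintype.card Ix = 7 from rfl] using hd)
    apply b2
    rw [map_one]
    apply coeM_inj
    rw [hc', hc1, one_smul]
    rfl
  have hP : Nat.card (Cfsg.POmega (ZMod 3) (Cfsg.quadFormOdd 3 (ZMod 3))) = 4585351680 := by
    have h := S0292.result (F := ZMod 3) (q := 3) (ZMod.card 3) ⟨1, rfl⟩ 3 le_rfl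
    norm_num [Finset.prod_range_succ] at h
    omega
  haveI : Finite (Cfsg.POmega (ZMod 3) (Cfsg.quadFormOdd 3 (ZMod 3))) :=
    Nat.finite_of_card_ne_zero (by rw [hP]; norm_num)
  have b3 : Function.Bijective ψ := hinj.bijective_of_nat_card_le (by rw [hP, hG])
  exact ⟨(MulEquiv.subgroupCongr toFi_range).symm.trans
    ((MulEquiv.ofBijective toFi.rangeRestrict b1).symm.trans (MulEquiv.ofBijective ψ b3))⟩

end Cfsg.Agent.CosetEnum.Fi22.O7
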