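import Cfsg.Agent.SporB.Fi22.O7.Data
import Cfsg.Agent.Lib.CosetEnum.Glue
import Cfsg.Prelude.Def_Classical
import Cfsg.Agent.SporB.Fi22.O.Data

/-!
Eight isometries of a seven-dimensional orthogonal space over the field with three elements,
satisfying the relators of `⟨b, …, i⟩` in `Fi22`, and a lower bound for the group they generate.
-/

set_option autoImplicit false
set_option maxRecDepth 100000

namespace Cfsg.Agent.CosetEnum.Fi22.O7

open Matrix

/-- Three is prime. -/
instance factPrimeThree : Fact (Nat.Prime 3) := ⟨by decide⟩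

/-- The isometry group. -/
abbrev Iso : Subgroup (Matrix.GeneralLinearGroup Ix (ZMod 3)) :=
  Cfsg.isometryGroup (ZMod 3) (Cfsg.quadFormOdd 3 (ZMod 3))

/-- The Gram matrix of the form. -/
def gram : Matrix Ix Ix (ZMod 3) :=
  ofRows [[1, 0, 0, 0, 0, 0, 0], [0, 0, 0, 0, 2, 0, 0], [0, 0, 0, 0, 0, 2, 0],
    [0, 0, 0, 0, 0, 0, 2], [0, 2, 0, 0, 0, 0, 0], [0, 0, 2, 0, 0, 0, 0], [0, 0, 0, 2, 0, 0, 0]]

theorem form_eq (v : Ix → ZMod 3) : Cfsg.quadFormOdd 3 (ZMod 3) v = v ⬝ᵥ (gram *ᵥ v) := by
  have h3 : (3 : ZMod 3) = 0 := rfl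
  simp [Cfsg.quadFormOdd, gram, ofRows, pos, dotProduct, Matrix.mulVec, Fintype.sum_sum_type,
    Fin.sum_univ_three]
  linear_combination -(v (.inr (.inl 0)) * v (.inr (.inr 0)) + v (.inr (.inl 1)) * v (.inr (.inr 1)) +
    v (.inr (.inl 2)) * v (.inr (.inr 2))) * h3

theorem mats_ok : mats.all (fun A => decide (A * A = 1) &&
    decide (A.transpose * gram * A = gram)) = true := by decide +kernel

theorem preserves {A : Matrix Ix Ix (ZMod 3)} (h : A.transpose * gram * A = gram)
    (v : Ix → ZMod 3) : Cfsg.quadFormOdd 3 (ZMod 3) (A *ᵥ v) = Cfsg.quadFormOdd 3 (ZMod 3) v := by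
  rw [form_eq, form_eq]
  conv_rhs => rw [← h, ← Matrix.mulVec_mulVec, ← Matrix.mulVec_mulVec,
    Matrix.dotProduct_mulVec v A.transpose, Matrix.vecMul_transpose]

/-- A listed matrix as an isometry. -/
def toIso (A : Matrix Ix Ix (ZMod 3)) (h : A ∈ mats) : Iso :=
  have h' := List.all_eq_true.mp mats_ok A h
  ⟨⟨A, A, of_decide_eq_true (Bool.and_eq_true_iff.mp h').1,
      of_decide_eq_true (Bool.and_eq_true_iff.mp h').1⟩,
    fun u _ => preserves (of_decide_eq_true (Bool.and_eq_true_iff.mp h').2) u⟩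

/-- The eight isometries. -/
def gens : List Iso := mats.pmap toIso fun _ h => h

/-- The value of a letter. -/
def val (l : ℕ) : Iso := gens.getD l 1

/-- The matrix of an isometry. -/
def coeM (g : Iso) : Matrix Ix Ix (ZMod 3) := ((g : Matrix.GeneralLinearGroup Ix (ZMod 3)) : Matrix Ix Ix (ZMod 3))

theorem coeM_one : coeM 1 = 1 := rfl

theorem coeM_mul (g h : Iso) : coeM (g * h) = coeM g * coeM h := rfl

theorem coeM_inj {g h : Iso} (e : coeM g = coeM h) : g = h := Subtype.ext (Units.ext e)

theorem coe_val (l : ℕ) : coeM (val l) = mats.getD l 1 := by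
  rcases Nat.lt_or_ge l 8 with h | h
  · interval_cases l <;> rfl
  · rw [val, List.getD_eq_default _ _ (show gens.length ≤ l from h),
      List.getD_eq_default _ _ (show mats.length ≤ l from h), coeM_one]

theorem coe_evalWord : ∀ W : List ℕ, coeM (evalWord val W) = (W.map fun l => mats.getD l 1).prod
  | [] => rfl
  | l :: ls => by
    show coeM (val l * evalWord val ls) = _
    rw [coeM_mul, coe_val, coe_evalWord ls]
    rfl

/-- The group generated by the isometries. -/
def image : Subgroup Iso := Subgroup.closure (Set.range val)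

/-- All matrices used: the letters and the further strong generators. -/
def allMats : List (Matrix Ix Ix (ZMod 3)) := mats ++ extraMats

/-- Isometries act on vectors. -/
instance isoAction : MulAction Iso (Ix → ZMod 3) where
  smul g v := coeM g *ᵥ v
  one_smul v := Matrix.one_mulVec v
  mul_smul g h v := (Matrix.mulVec_mulVec v (coeM g) (coeM h)).symm

/-- The vector with a code. -/
def vecOf (n : ℕ) : Ix → ZMod 3 := fun i => ((n / 3 ^ pos i % 3 : ℕ) : ZMod 3)

/-- The code of a vector. -/
def code (v : Ix → ZMod 3) : ℕ :=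
  [(Sum.inl () : Ix), .inr (.inl 0), .inr (.inl 1), .inr (.inl 2), .inr (.inr 0), .inr (.inr 1),
    .inr (.inr 2)].foldr (fun i n => (v i).val + 3 * n) 0

/-- No number is repeated. -/
def nodupMask : ℕ → List ℕ → Bool
  | _, [] => true
  | acc, x :: xs => !acc.testBit x && nodupMask (acc ||| 1 <<< x) xs

theorem nodupMask_spec : ∀ (xs : List ℕ) (acc : ℕ), nodupMask acc xs = true →
    xs.Nodup ∧ ∀ x ∈ xs, acc.testBit x = false
  | [], _, _ => by simp
  | x :: xs, acc, h => by
    simp only [nodupMask, Bool.and_eq_true, Bool.not_eq_true'] at h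
    obtain ⟨h1, h2⟩ := nodupMask_spec xs _ h.2
    refine ⟨List.nodup_cons.mpr ⟨fun hx => ?_, h1⟩, List.forall_mem_cons.mpr ⟨h.1, fun y hy => ?_⟩⟩
    · have := h2 x hx
      simp [Nat.testBit_lor, Nat.one_shiftLeft] at this
    · have := h2 y hy
      rw [Nat.testBit_lor, Bool.or_eq_false_iff] at this
      exact this.1

/-- The check of one level: an orbit of `b` under some listed matrices fixing earlier points. -/
noncomputable def levelOk (gs : List ℕ) (fixed : List ℕ) (pts : List ℕ) (edges : List (ℕ × ℕ)) : Bool :=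
  nodupMask 0 pts && pts.all (fun n => Nat.beq (code (vecOf n)) n) &&
  gs.all (fun g => fixed.all fun b => decide ((allMats.getD g 1) *ᵥ vecOf b = vecOf b)) &&
  allRange (fun i =>
    let e := edges.getD i (0, 0)
    gs.contains e.1 && Nat.blt e.2 i &&
      decide ((allMats.getD e.1 1) *ᵥ vecOf (pts.getD e.2 0) = vecOf (pts.getD i 0)))
    1 (pts.length - 1)


end Cfsg.Agent.CosetEnum.Fi22.O7
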