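import Cfsg.Agent.SporB.Fi22.O7.Defs

set_option autoImplicit false
set_option maxRecDepth 100000

namespace Cfsg.Agent.CosetEnum.Fi22.O7

open Matrix

theorem level0 : levelOk (List.range 8) [] pts0 edges0 = true := by decide +kernel

theorem level1 : levelOk (List.range' 8 9) [1] pts1 edges1 = true := by decide +kernel

theorem level2 : levelOk (List.range' 17 8) [3, 1] pts2 edges2 = true := by decide +kernel

theorem level3 : levelOk (List.range' 25 12) [9, 3, 1] pts3 edges3 = true := by decide +kernel

theorem level4 : levelOk (List.range' 37 12) [81, 9, 3, 1] pts4 edges4 = true := by decide +kernel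


end Cfsg.Agent.CosetEnum.Fi22.O7
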