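import Cfsg.Agent.SporB.Fi22.O7.Defs

set_option autoImplicit false
set_option maxRecDepth 100000

namespace Cfsg.Agent.CosetEnum.Fi22.O7

open Matrix

theorem prog_ok : allRange (fun i => decide (((prog.getD i []).map fun l => allMats.getD l 1).prod =
    extraMats.getD i 1) && (prog.getD i []).all (fun l => Nat.blt l (8 + i))) 0 extraMats.length = true := by
  decide +kernel


end Cfsg.Agent.CosetEnum.Fi22.O7
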