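import Cfsg.Agent.SporB.Fi22.O7.RelsCheck
import Cfsg.Agent.SporB.Fi22.O7.ProgCheck
import Cfsg.Agent.SporB.Fi22.O7.Levels

set_option autoImplicit false
set_option maxRecDepth 100000

namespace Cfsg.Agent.CosetEnum.Fi22.O7

open Matrix

theorem rels_one : ∀ W ∈ O.rels, evalWord val W = 1 := fun W hW =>
  coeM_inj ((coe_evalWord W).trans (of_decide_eq_true (List.all_eq_true.mp rels_ok W hW)))

theorem exists_image : ∀ i, ∃ g ∈ image, coeM g = allMats.getD i 1 := by
  intro i
  induction i using Nat.strong_induction_on with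
  | _ i ih =>
    rcases Nat.lt_or_ge i 8 with h | h
    · refine ⟨val i, Subgroup.subset_closure ⟨i, rfl⟩, ?_⟩
      rw [coe_val, allMats, List.getD_append _ _ _ _ (show i < mats.length from h)]
    · rw [show allMats.getD i 1 = extraMats.getD (i - 8) 1 from
        List.getD_append_right mats extraMats 1 i (show mats.length ≤ i from h)]
      rcases Nat.lt_or_ge (i - 8) extraMats.length with h' | h'
      · have hc := allRange_spec prog_ok (i - 8) (Nat.zero_le _) (by omega)
        simp only [Bool.and_eq_true, decide_eq_true_eq, List.all_eq_true] at hc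
        rw [← hc.1]
        generalize prog.getD (i - 8) [] = W at hc
        have hlt : ∀ l ∈ W, l < i := fun l hl => by
          have := Nat.le_of_ble_eq_true (hc.2 l hl); omega
        clear hc
        induction W with
        | nil => exact ⟨1, one_mem _, rfl⟩
        | cons l W ihW =>
          obtain ⟨g, hg, hgc⟩ := ih l (hlt l List.mem_cons_self)
          obtain ⟨k, hk, hkc⟩ := ihW fun x hx => hlt x (List.mem_cons_of_mem _ hx)
          exact ⟨g * k, mul_mem hg hk, by rw [coeM_mul, hgc, hkc]; rfl⟩
      · rw [List.getD_eq_default _ _ h']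
        exact ⟨1, one_mem _, rfl⟩

/-- The elements of the image fixing some coded vectors. -/
def fixer (fixed : List ℕ) : Subgroup Iso :=
  fixed.foldr (fun b H => H ⊓ MulAction.stabilizer Iso (vecOf b)) image

theorem mem_fixer {g : Iso} : ∀ {fixed : List ℕ}, g ∈ image →
    (∀ b ∈ fixed, g • vecOf b = vecOf b) → g ∈ fixer fixed
  | [], hg, _ => hg
  | b :: fixed, hg, h => ⟨mem_fixer hg fun c hc => h c (List.mem_cons_of_mem _ hc),
      h b List.mem_cons_self⟩

theorem level_bound [Finite Iso] {gs fixed pts : List ℕ} {edges : List (ℕ × ℕ)}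
    (h : levelOk gs fixed pts edges = true) :
    pts.length * Nat.card (fixer (pts.getD 0 0 :: fixed)) ≤ Nat.card (fixer fixed) := by
  simp only [levelOk, Bool.and_eq_true, List.all_eq_true, decide_eq_true_eq] at h
  obtain ⟨⟨⟨hn, hc⟩, hfix⟩, he⟩ := h
  have hinj : ∀ x ∈ pts, ∀ y ∈ pts, vecOf x = vecOf y → x = y := fun x hx y hy e => by
    rw [← Nat.eq_of_beq_eq_true (hc x hx), e, Nat.eq_of_beq_eq_true (hc y hy)]
  have horb : ∀ i < pts.length, ∃ g ∈ fixer fixed, g • vecOf (pts.getD 0 0) = vecOf (pts.getD i 0) := by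
    intro i
    induction i using Nat.strong_induction_on with
    | _ i ih =>
      intro hi
      rcases Nat.eq_zero_or_pos i with rfl | hpos
      · exact ⟨1, one_mem _, one_smul _ _⟩
      · have hh := allRange_spec he i hpos (by omega)
        simp only [Bool.and_eq_true, List.contains_iff_mem, decide_eq_true_eq] at hh
        obtain ⟨⟨hg, hlt⟩, hstep⟩ := hh
        have hlt' := Nat.le_of_ble_eq_true hlt
        obtain ⟨g, hgm, hge⟩ := ih _ hlt' (by omega)
        obtain ⟨k, hk, hkc⟩ := exists_image (edges.getD i (0, 0)).1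
        refine ⟨k * g, mul_mem (mem_fixer hk fun b hb => ?_) hgm, ?_⟩
        · show coeM k *ᵥ _ = _
          rw [hkc]
          exact hfix _ hg b hb
        · show coeM (k * g) *ᵥ _ = _
          rw [coeM_mul, ← Matrix.mulVec_mulVec, hkc, show coeM g *ᵥ _ = _ from hge]
          exact hstep
  have := Glue.card_step (fixer fixed) (vecOf (pts.getD 0 0)) (pts.map vecOf)
    ((nodupMask_spec pts 0 hn).1.map_on hinj) (by
      intro x hx
      obtain ⟨n, hn', rfl⟩ := List.mem_map.mp hx
      obtain ⟨i, hi, rfl⟩ := List.getElem_of_mem hn'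
      rw [← List.getD_eq_getElem pts 0 hi]
      exact horb i hi)
  rwa [List.length_map] at this

theorem image_card_ge : 4585351680 ≤ Nat.card image := by
  haveI : Finite Iso := Subtype.finite
  calc 4585351680 = 756 * (260 * (96 * (27 * (9 * 1)))) := by norm_num
    _ ≤ 756 * (260 * (96 * (27 * (9 * Nat.card (fixer [243, 81, 9, 3, 1]))))) := by
        gcongr; exact Nat.card_pos
    _ ≤ 756 * (260 * (96 * (27 * Nat.card (fixer [81, 9, 3, 1])))) := by
        gcongr; exact level_bound level4
    _ ≤ 756 * (260 * (96 * Nat.card (fixer [9, 3, 1]))) := by gcongr; exact level_bound level3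
    _ ≤ 756 * (260 * Nat.card (fixer [3, 1])) := by gcongr; exact level_bound level2
    _ ≤ 756 * Nat.card (fixer [1]) := by gcongr; exact level_bound level1
    _ ≤ Nat.card image := level_bound level0

end Cfsg.Agent.CosetEnum.Fi22.O7
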