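import Cfsg.Agent.SporB.Fi22.O7.Defs

set_option autoImplicit false
set_option maxRecDepth 100000

namespace Cfsg.Agent.CosetEnum.Fi22.O7

open Matrix

theorem rels_ok : O.rels.all (fun W => decide ((W.map fun l => mats.getD l 1).prod = 1)) = true := by
  decide +kernel


end Cfsg.Agent.CosetEnum.Fi22.O7
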